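import Mathlib

set_option autoImplicit false

/-!
Elementary facts on `SL(2,F)` and `PSL(2,F)` over a finite field `F`, proved through traces:
binary quadratic forms, conjugacy of non-parabolic elements by trace, and the existence of elements with
prescribed traces `tr X`, `tr (X⁻¹ g)`.
-/

namespace CfsgLib.SL2Trace

open Matrix
open scoped MatrixGroups

variable {F : Type*} [Field F] [Fintype F]

omit [Fintype F] in
theorem two_ne_zero_of_ringChar (h : ringChar F ≠ 2) : (2 : F) ≠ 0 :=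
  Ring.two_ne_zero h

/-- A binary quadratic form of nonzero discriminant over a finite field takes every nonzero value. -/
theorem exists_binary_eq (α β γ n : F) (hD : β ^ 2 - 4 * α * γ ≠ 0) (hn : n ≠ 0) :
    ∃ a b : F, α * a ^ 2 + β * a * b + γ * b ^ 2 = n := by
  by_cases hα : α = 0
  · subst hα
    have hβ : β ≠ 0 := by
      intro h; apply hD; rw [h]; ring
    refine ⟨(n - γ) / β, 1, ?_⟩
    field_simp
    ring
  by_cases h2 : ringChar F = 2
  · obtain ⟨r, hr⟩ := FiniteField.isSquare_of_char_two h2 (n / α)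
    refine ⟨r, 0, ?_⟩
    have : α * (n / α) = n := by field_simp
    rw [← this, hr]
    ring
  · have h2' : (2 : F) ≠ 0 := two_ne_zero_of_ringChar h2
    set δ : F := γ - β ^ 2 / (4 * α) with hδ
    have h4 : (4 : F) ≠ 0 := by
      have : (4 : F) = 2 * 2 := by norm_num
      rw [this]; exact mul_ne_zero h2' h2'
    have hδ0 : δ ≠ 0 := by
      intro h
      apply hD
      have : β ^ 2 - 4 * α * γ = -(4 * α) * δ := by rw [hδ]; field_simp; ring
      rw [this, h]; ring
    have hf : (Polynomial.C α * Polynomial.X ^ 2 - Polynomial.C n).degree = 2 := by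
      rw [Polynomial.degree_sub_C] <;> rw [Polynomial.degree_C_mul_X_pow 2 hα] <;> norm_num
    have hg : (Polynomial.C δ * Polynomial.X ^ 2).degree = 2 :=
      Polynomial.degree_C_mul_X_pow 2 hδ0
    have hodd : Fintype.card F % 2 = 1 := FiniteField.odd_card_of_char_ne_two h2
    obtain ⟨u, v, huv⟩ := FiniteField.exists_root_sum_quadratic hf hg hodd
    simp at huv
    refine ⟨u - β * v / (2 * α), v, ?_⟩
    rw [hδ] at huv
    field_simp at huv ⊢
    linear_combination huv

/-- Every element of a finite field is a value of `a² - τab + b²` shifted to the centre. -/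
theorem exists_norm_eq (τ n : F) (hτ : τ ^ 2 ≠ 4) : ∃ a b : F, a ^ 2 - τ * a * b + b ^ 2 = n := by
  by_cases hn : n = 0
  · exact ⟨0, 0, by rw [hn]; ring⟩
  · obtain ⟨a, b, h⟩ := exists_binary_eq (1 : F) (-τ) 1 n (by
      intro h; apply hτ; linear_combination h) hn
    exact ⟨a, b, by linear_combination h⟩

section

omit [Fintype F]

theorem det_eq_one (g : SL(2, F)) :
    (g : Matrix (Fin 2) (Fin 2) F) 0 0 * (g : Matrix (Fin 2) (Fin 2) F) 1 1
      - (g : Matrix (Fin 2) (Fin 2) F) 0 1 * (g : Matrix (Fin 2) (Fin 2) F) 1 0 = 1 := by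
  rw [← Matrix.det_fin_two]; exact g.prop

/-- An element of `SL(2,F)` given by a matrix of determinant one. -/
def mkSL (M : Matrix (Fin 2) (Fin 2) F) (h : M.det = 1) : SL(2, F) := ⟨M, h⟩

theorem coe_mkSL (M : Matrix (Fin 2) (Fin 2) F) (h : M.det = 1) :
    (mkSL M h : Matrix (Fin 2) (Fin 2) F) = M := rfl

/-- The companion element with trace `t`. -/
def companion (t : F) : SL(2, F) :=
  ⟨!![0, -1; 1, t], by simp [Matrix.det_fin_two_of]⟩

/-- `g` is not `±1`, stated on entries. -/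
def NonScalar (g : Matrix (Fin 2) (Fin 2) F) : Prop :=
  g 0 1 ≠ 0 ∨ g 1 0 ≠ 0 ∨ g 0 0 ≠ g 1 1

theorem nonScalar_of_not_mem_center {g : SL(2, F)} (hg : g ∉ Subgroup.center SL(2, F)) :
    NonScalar (g : Matrix (Fin 2) (Fin 2) F) := by
  by_contra h
  simp only [NonScalar, not_or, not_not] at h
  apply hg
  rw [Matrix.SpecialLinearGroup.mem_center_iff]
  refine ⟨g 0 0, ?_, ?_⟩
  · have := det_eq_one g
    rw [h.1, ← h.2.2] at this
    simp only [Fintype.card_fin]
    linear_combination this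
  · ext i j
    fin_cases i <;> fin_cases j <;> simp [h.1, h.2.1, h.2.2]

/-- A non-scalar matrix is conjugate in `GL(2,F)` to a companion matrix. -/
theorem exists_conj_companion_GL (g : SL(2, F)) (hg : NonScalar (g : Matrix (Fin 2) (Fin 2) F)) :
    ∃ P : GL (Fin 2) F, (g : Matrix (Fin 2) (Fin 2) F) * P =
      P * (companion (Matrix.trace (g : Matrix (Fin 2) (Fin 2) F)) : Matrix (Fin 2) (Fin 2) F) := by
  obtain ⟨a, b, hd⟩ : ∃ a b : F, g 1 0 * a ^ 2 + (g 1 1 - g 0 0) * a * b - g 0 1 * b ^ 2 ≠ 0 := by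
    by_contra h
    push Not at h
    have h1 : g 1 0 = 0 := by simpa using h 1 0
    have h2 : g 0 1 = 0 := by simpa using h 0 1
    have h3 := h 1 1
    rw [h1, h2] at h3
    have h3' : g 1 1 - g 0 0 = 0 := by linear_combination h3
    rcases hg with h' | h' | h'
    · exact h' h2
    · exact h' h1
    · exact h' (sub_eq_zero.1 h3').symm
  set P : Matrix (Fin 2) (Fin 2) F := !![a, g 0 0 * a + g 0 1 * b; b, g 1 0 * a + g 1 1 * b] with hP
  have hdet : P.det ≠ 0 := by
    rw [hP, Matrix.det_fin_two_of]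
    intro h; apply hd; linear_combination h
  refine ⟨Matrix.GeneralLinearGroup.mkOfDetNeZero P hdet, ?_⟩
  have := det_eq_one g
  ext i j
  fin_cases i <;> fin_cases j <;>
    simp [companion, hP, Matrix.mul_apply, Matrix.trace_fin_two, Matrix.GeneralLinearGroup.mkOfDetNeZero] <;>
    grind

end

/-- An element of `SL(2,F)` of trace `t` with `t² ≠ 4` is conjugate to the companion element. -/
theorem isConj_companion (g : SL(2, F)) (t : F) (ht : Matrix.trace (g : Matrix (Fin 2) (Fin 2) F) = t)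
    (ht4 : t ^ 2 ≠ 4) : IsConj g (companion t) := by
  have hdet := det_eq_one g
  rw [Matrix.trace_fin_two] at ht
  obtain ⟨a, b, hab⟩ := exists_binary_eq (g 1 0) (g 1 1 - g 0 0) (-(g 0 1)) 1 (by
    intro h; apply ht4; linear_combination h - (t + g 0 0 + g 1 1) * ht + 4 * hdet) one_ne_zero
  let P : SL(2, F) := ⟨!![a, g 0 0 * a + g 0 1 * b; b, g 1 0 * a + g 1 1 * b], by
    rw [Matrix.det_fin_two_of]; linear_combination hab⟩
  have hP : g * P = P * companion t := by
    apply Subtype.ext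
    rw [Matrix.SpecialLinearGroup.coe_mul, Matrix.SpecialLinearGroup.coe_mul]
    show (g : Matrix (Fin 2) (Fin 2) F) * !![a, g 0 0 * a + g 0 1 * b; b, g 1 0 * a + g 1 1 * b] =
      !![a, g 0 0 * a + g 0 1 * b; b, g 1 0 * a + g 1 1 * b] * !![0, -1; 1, t]
    ext i j
    fin_cases i <;> fin_cases j <;>
      simp [Matrix.mul_apply] <;> grind
  refine isConj_iff.2 ⟨P⁻¹, ?_⟩
  rw [inv_inv, mul_assoc, hP, inv_mul_cancel_left]

/-- Two elements of `SL(2,F)` with the same trace `t`, `t² ≠ 4`, are conjugate. -/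
theorem isConj_of_trace_eq (g h : SL(2, F))
    (heq : Matrix.trace (g : Matrix (Fin 2) (Fin 2) F) = Matrix.trace (h : Matrix (Fin 2) (Fin 2) F))
    (ht4 : Matrix.trace (g : Matrix (Fin 2) (Fin 2) F) ^ 2 ≠ 4) : IsConj g h :=
  (isConj_companion g _ rfl ht4).trans (isConj_companion h _ heq.symm ht4).symm

/-- The pair `(X, X⁻¹ * companion τ)` with prescribed traces `(t, s)`: when `τ² ≠ 4` it exists always. -/
theorem exists_pair_companion (τ t s : F)
    (h : τ ^ 2 ≠ 4 ∨ (∃ ε : F, ε ^ 2 = 1 ∧ τ = 2 * ε ∧ s ≠ ε * t) ∨ (∃ l : F, l ^ 2 - t * l + 1 = 0)) :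
    ∃ X : SL(2, F), Matrix.trace (X : Matrix (Fin 2) (Fin 2) F) = t ∧
      Matrix.trace ((X⁻¹ * companion τ : SL(2, F)) : Matrix (Fin 2) (Fin 2) F) = s := by
  obtain ⟨a, b, hab⟩ : ∃ a b : F, a ^ 2 - τ * a * b + b ^ 2 - t * a + s * b + 1 = 0 := by
    rcases h with h | ⟨ε, hε, rfl, hs⟩ | ⟨l, hl⟩
    · set D : F := 4 - τ ^ 2 with hDdef
      have hD : D ≠ 0 := by
        intro h'; apply h; linear_combination -(hDdef.symm.trans h')
      set a₀ : F := (2 * t - τ * s) / D with ha
      set b₀ : F := (t * τ - 2 * s) / D with hb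
      obtain ⟨u, v, huv⟩ :=
        exists_norm_eq τ (-(a₀ ^ 2 - τ * a₀ * b₀ + b₀ ^ 2 - t * a₀ + s * b₀ + 1)) h
      have e1 : 2 * a₀ - τ * b₀ - t = 0 := by
        rw [ha, hb]; field_simp; rw [hDdef]; ring
      have e2 : -τ * a₀ + 2 * b₀ + s = 0 := by
        rw [ha, hb]; field_simp; rw [hDdef]; ring
      exact ⟨a₀ + u, b₀ + v, by linear_combination huv + u * e1 + v * e2⟩
    · have hs' : s - ε * t ≠ 0 := sub_ne_zero.2 hs
      refine ⟨ε * (-1 / (s - ε * t)), -1 / (s - ε * t), ?_⟩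
      generalize hb : -1 / (s - ε * t) = b
      have hb' : b * (s - ε * t) = -1 := by rw [← hb]; field_simp
      linear_combination hb' - b ^ 2 * hε
    · exact ⟨l, 0, by linear_combination hl⟩
  have hdet : (!![a, b; s + b - a * τ, t - a] : Matrix (Fin 2) (Fin 2) F).det = 1 := by
    rw [Matrix.det_fin_two_of]; linear_combination -hab
  refine ⟨mkSL _ hdet, ?_, ?_⟩
  · simp [coe_mkSL, Matrix.trace_fin_two]
  · rw [Matrix.SpecialLinearGroup.coe_mul, Matrix.SpecialLinearGroup.coe_inv]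
    show Matrix.trace (Matrix.adjugate !![a, b; s + b - a * τ, t - a] * !![0, -1; 1, τ]) = s
    rw [Matrix.adjugate_fin_two_of]
    simp [Matrix.trace_fin_two, Matrix.mul_apply]

/-- For non-scalar `g`, there is `X` with prescribed traces of `X` and `X⁻¹ g`. -/
theorem exists_pair (g : SL(2, F)) (hg : NonScalar (g : Matrix (Fin 2) (Fin 2) F)) (τ t s : F)
    (hτ : Matrix.trace (g : Matrix (Fin 2) (Fin 2) F) = τ)
    (h : τ ^ 2 ≠ 4 ∨ (∃ ε : F, ε ^ 2 = 1 ∧ τ = 2 * ε ∧ s ≠ ε * t) ∨ (∃ l : F, l ^ 2 - t * l + 1 = 0)) :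
    ∃ X : SL(2, F), Matrix.trace (X : Matrix (Fin 2) (Fin 2) F) = t ∧
      Matrix.trace ((X⁻¹ * g : SL(2, F)) : Matrix (Fin 2) (Fin 2) F) = s := by
  obtain ⟨P, hP⟩ := exists_conj_companion_GL g hg
  rw [hτ] at hP
  obtain ⟨X, hX1, hX2⟩ := exists_pair_companion τ t s h
  set Y : Matrix (Fin 2) (Fin 2) F :=
    (P : Matrix (Fin 2) (Fin 2) F) * (X : Matrix (Fin 2) (Fin 2) F) * (↑P⁻¹ : Matrix (Fin 2) (Fin 2) F) with hY
  have hYdet : Y.det = 1 := by
    rw [hY, Matrix.det_units_conj]; exact X.prop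
  refine ⟨⟨Y, hYdet⟩, ?_, ?_⟩
  · show Matrix.trace Y = t
    rw [hY, Matrix.trace_units_conj]; exact hX1
  · have hgC : (g : Matrix (Fin 2) (Fin 2) F) =
        (P : Matrix (Fin 2) (Fin 2) F) * (companion τ : Matrix (Fin 2) (Fin 2) F) *
          (↑P⁻¹ : Matrix (Fin 2) (Fin 2) F) := by
      rw [← hP, mul_assoc, Units.mul_inv, mul_one]
    have key : Y * ((P : Matrix (Fin 2) (Fin 2) F) *
        ((X⁻¹ * companion τ : SL(2, F)) : Matrix (Fin 2) (Fin 2) F) * (↑P⁻¹ : Matrix (Fin 2) (Fin 2) F))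
        = g := by
      rw [hY, hgC]
      have hXX : (X : Matrix (Fin 2) (Fin 2) F) * ((X⁻¹ * companion τ : SL(2, F)) : Matrix (Fin 2) (Fin 2) F)
          = (companion τ : Matrix (Fin 2) (Fin 2) F) := by
        rw [← Matrix.SpecialLinearGroup.coe_mul, mul_inv_cancel_left]
      calc _ = (P : Matrix (Fin 2) (Fin 2) F) * (X : Matrix (Fin 2) (Fin 2) F) *
            ((↑P⁻¹ : Matrix (Fin 2) (Fin 2) F) * (P : Matrix (Fin 2) (Fin 2) F)) *
            ((X⁻¹ * companion τ : SL(2, F)) : Matrix (Fin 2) (Fin 2) F) *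
            (↑P⁻¹ : Matrix (Fin 2) (Fin 2) F) := by simp only [mul_assoc]
        _ = _ := by rw [Units.inv_mul, mul_one, mul_assoc (P : Matrix (Fin 2) (Fin 2) F), hXX]
    set Z : SL(2, F) := ⟨Y, hYdet⟩ with hZ
    have hYg : ((Z⁻¹ * g : SL(2, F)) : Matrix (Fin 2) (Fin 2) F) =
        (P : Matrix (Fin 2) (Fin 2) F) *
          ((X⁻¹ * companion τ : SL(2, F)) : Matrix (Fin 2) (Fin 2) F) * (↑P⁻¹ : Matrix (Fin 2) (Fin 2) F) := by
      rw [Matrix.SpecialLinearGroup.coe_mul]
      conv_lhs => rw [← key]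
      rw [← mul_assoc, ← mul_assoc]
      have : ((Z⁻¹ : SL(2, F)) : Matrix (Fin 2) (Fin 2) F) * Y = 1 := by
        have h' := congrArg (fun M : SL(2, F) => (M : Matrix (Fin 2) (Fin 2) F)) (inv_mul_cancel Z)
        simp only [Matrix.SpecialLinearGroup.coe_mul, Matrix.SpecialLinearGroup.coe_one] at h'
        exact h'
      rw [this, one_mul, mul_assoc]
    rw [hYg, Matrix.trace_units_conj]; exact hX2

section projective

omit [Fintype F]

/-- The quotient map to `PSL(2,F)`. -/
abbrev proj (g : SL(2, F)) : Matrix.ProjectiveSpecialLinearGroup (Fin 2) F :=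
  QuotientGroup.mk g

theorem proj_surjective : Function.Surjective (proj (F := F)) :=
  QuotientGroup.mk_surjective

theorem neg_one_mem_center : (-1 : SL(2, F)) ∈ Subgroup.center SL(2, F) := by
  rw [Subgroup.mem_center_iff]; intro g; simp

theorem mem_center_iff_eq (g : SL(2, F)) : g ∈ Subgroup.center SL(2, F) ↔ g = 1 ∨ g = -1 := by
  constructor
  · intro h
    rw [Matrix.SpecialLinearGroup.mem_center_iff] at h
    obtain ⟨r, hr, hrg⟩ := h
    simp only [Fintype.card_fin] at hr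
    rcases sq_eq_one_iff.1 hr with rfl | rfl
    · left; apply Subtype.ext; rw [← hrg]; simp
    · right; apply Subtype.ext; rw [← hrg]
      ext i j; fin_cases i <;> fin_cases j <;> simp
  · rintro (rfl | rfl)
    · exact one_mem _
    · exact neg_one_mem_center

theorem proj_neg (g : SL(2, F)) : proj (-g) = proj g := by
  rw [proj, proj, QuotientGroup.eq]
  have : (-g)⁻¹ * g = -1 := by
    rw [eq_comm, eq_inv_mul_iff_mul_eq]; simp
  rw [this]; exact neg_one_mem_center

theorem proj_eq_one_iff (g : SL(2, F)) : proj g = 1 ↔ g = 1 ∨ g = -1 := by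
  rw [proj, QuotientGroup.eq_one_iff]; exact mem_center_iff_eq g

theorem nonScalar_of_proj_ne_one {g : SL(2, F)} (h : proj g ≠ 1) :
    NonScalar (g : Matrix (Fin 2) (Fin 2) F) :=
  nonScalar_of_not_mem_center fun hc => h ((QuotientGroup.eq_one_iff g).2 hc)

theorem isConj_proj {g h : SL(2, F)} (hc : IsConj g h) : IsConj (proj g) (proj h) :=
  MonoidHom.map_isConj (QuotientGroup.mk' _ : SL(2, F) →* Matrix.ProjectiveSpecialLinearGroup (Fin 2) F) hc

end projective

/-- Elements with equal trace up to sign give conjugate classes in `PSL(2,F)`. -/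
theorem isConj_proj_of_trace (g h : SL(2, F))
    (ht4 : Matrix.trace (h : Matrix (Fin 2) (Fin 2) F) ^ 2 ≠ 4)
    (heq : Matrix.trace (g : Matrix (Fin 2) (Fin 2) F) = Matrix.trace (h : Matrix (Fin 2) (Fin 2) F) ∨
      Matrix.trace (g : Matrix (Fin 2) (Fin 2) F) = -Matrix.trace (h : Matrix (Fin 2) (Fin 2) F)) :
    IsConj (proj g) (proj h) := by
  rcases heq with e | e
  · exact isConj_proj (isConj_of_trace_eq g h e (by rw [e]; exact ht4))
  · rw [← proj_neg h]
    apply isConj_proj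
    apply isConj_of_trace_eq
    · simp [e]
    · rw [e, neg_sq]; exact ht4

end CfsgLib.SL2Trace
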