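import Cfsg.Agent.SL2Trace.Basic

set_option autoImplicit false

/-!
Orders in `SL(2,F)` read off from the trace: Cayley–Hamilton, the two tori, and the parabolic elements.
-/

namespace CfsgLib.SL2Trace

open Matrix Polynomial
open scoped MatrixGroups

variable {F : Type*} [Field F]

theorem cayley (g : SL(2, F)) (t : F) (ht : Matrix.trace (g : Matrix (Fin 2) (Fin 2) F) = t) :
    (g : Matrix (Fin 2) (Fin 2) F) ^ 2 - t • (g : Matrix (Fin 2) (Fin 2) F) + 1 = 0 := by
  have h := det_eq_one g
  rw [Matrix.trace_fin_two] at ht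
  subst ht
  rw [pow_two]
  ext i j
  fin_cases i <;> fin_cases j <;> simp [Matrix.mul_apply] <;> grind

/-- An element of trace `t = ±2` (`t = 2ε`) satisfies `(g - ε)² = 0`. -/
theorem sub_sq_eq_zero (g : SL(2, F)) (ε : F) (hε : ε ^ 2 = 1)
    (ht : Matrix.trace (g : Matrix (Fin 2) (Fin 2) F) = 2 * ε) :
    ((g : Matrix (Fin 2) (Fin 2) F) - ε • 1) ^ 2 = 0 := by
  have h := det_eq_one g
  rw [Matrix.trace_fin_two] at ht
  rw [pow_two]
  ext i j
  fin_cases i <;> fin_cases j <;> simp [Matrix.mul_apply] <;> grind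

/-- In characteristic `p`, an element of trace `±2` has `p`-th power `±1`. -/
theorem proj_pow_char_eq_one (p : ℕ) [Fact p.Prime] [CharP F p] (g : SL(2, F))
    (ht : Matrix.trace (g : Matrix (Fin 2) (Fin 2) F) ^ 2 = 4) : proj g ^ p = 1 := by
  obtain ⟨ε, hε, he⟩ : ∃ ε : F, ε ^ 2 = 1 ∧ Matrix.trace (g : Matrix (Fin 2) (Fin 2) F) = 2 * ε := by
    have h' : (Matrix.trace (g : Matrix (Fin 2) (Fin 2) F) - 2) *
        (Matrix.trace (g : Matrix (Fin 2) (Fin 2) F) + 2) = 0 := by linear_combination ht
    rcases mul_eq_zero.1 h' with h'' | h''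
    · exact ⟨1, one_pow 2, by linear_combination h''⟩
    · exact ⟨-1, by ring, by linear_combination h''⟩
  have hsq := sub_sq_eq_zero g ε hε he
  have hp : 2 ≤ p := (Fact.out : p.Prime).two_le
  have hN : ((g : Matrix (Fin 2) (Fin 2) F) - ε • 1) ^ p = 0 := pow_eq_zero_of_le hp hsq
  have hc : Commute ((g : Matrix (Fin 2) (Fin 2) F) - ε • 1) (ε • 1) :=
    (Commute.one_right _).smul_right ε
  have : (g : Matrix (Fin 2) (Fin 2) F) ^ p = ε ^ p • 1 := by
    haveI : CharP (Matrix (Fin 2) (Fin 2) F) p := inferInstance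
    have e := add_pow_char_of_commute p hc
    rw [sub_add_cancel, hN, zero_add, _root_.smul_pow, one_pow] at e
    exact e
  have hε' : ε ^ p = 1 ∨ ε ^ p = -1 := by
    rw [← sq_eq_one_iff, ← pow_mul, mul_comm, pow_mul, hε, one_pow]
  rw [proj, ← QuotientGroup.mk_pow, ← proj, proj_eq_one_iff]
  rcases hε' with h | h
  · left; apply Subtype.ext; rw [Matrix.SpecialLinearGroup.coe_pow, this, h]; simp
  · right; apply Subtype.ext; rw [Matrix.SpecialLinearGroup.coe_pow, this, h]; simp

theorem proj_sq_eq_one_of_trace_zero (g : SL(2, F))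
    (ht : Matrix.trace (g : Matrix (Fin 2) (Fin 2) F) = 0) : proj g ^ 2 = 1 := by
  have h := cayley g 0 ht
  rw [zero_smul, sub_zero] at h
  rw [proj, ← QuotientGroup.mk_pow, ← proj, proj_eq_one_iff]
  right
  apply Subtype.ext
  rw [Matrix.SpecialLinearGroup.coe_pow, eq_neg_of_add_eq_zero_left h]
  simp

/-- If `T² - tT + 1` has no root in `F` then an element of trace `t` satisfies `g^(q+1) = 1`. -/
theorem pow_card_add_one [Fintype F] (g : SL(2, F)) (t : F)
    (ht : Matrix.trace (g : Matrix (Fin 2) (Fin 2) F) = t) (hno : ∀ l : F, l ^ 2 - t * l + 1 ≠ 0) :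
    g ^ (Fintype.card F + 1) = 1 := by
  set f : F[X] := X ^ 2 - C t * X + 1 with hf
  have hdeg : f.natDegree = 2 := by rw [hf]; compute_degree!
  have hroots : f.roots = 0 := by
    rw [Multiset.eq_zero_iff_forall_notMem]
    intro l hl
    have := (Polynomial.mem_roots'.1 hl).2
    simp [hf] at this
    exact hno l this
  have hirr : Irreducible f := by
    rw [Polynomial.irreducible_iff_roots_eq_zero_of_degree_le_three (by omega) (by omega)]
    exact hroots
  haveI : Fact (Irreducible f) := ⟨hirr⟩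
  set r : AdjoinRoot f := AdjoinRoot.root f with hr
  have hroot : r ^ 2 - AdjoinRoot.of f t * r + 1 = 0 := by
    have := AdjoinRoot.eval₂_root f
    simpa [hf] using this
  obtain ⟨p, hp⟩ := CharP.exists F
  obtain ⟨n, hpp, hq⟩ := FiniteField.card F p
  haveI := Fact.mk hpp
  haveI : CharP (AdjoinRoot f) p := charP_of_injective_ringHom (AdjoinRoot.of f).injective p
  have hfrob : ∀ a : F, (AdjoinRoot.of f a) ^ Fintype.card F = AdjoinRoot.of f a := by
    intro a; rw [← map_pow, FiniteField.pow_card]
  have hroot2 : (r ^ Fintype.card F) ^ 2 - AdjoinRoot.of f t * r ^ Fintype.card F + 1 = 0 := by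
    have h0 := congrArg (fun z => iterateFrobenius (AdjoinRoot f) p n z) hroot
    simp only [map_add, map_sub, map_mul, map_pow, map_one, map_zero, iterateFrobenius_def] at h0
    rw [← hq, hfrob] at h0
    exact h0
  have hne : r ^ Fintype.card F ≠ r := by
    intro he
    have hmem : r ∈ (AdjoinRoot.of f).fieldRange := by
      by_contra hnot
      classical
      let P : (AdjoinRoot f)[X] := X ^ Fintype.card F - X
      have hP : P ≠ 0 := FiniteField.X_pow_card_sub_X_ne_zero _ Fintype.one_lt_card
      let S : Finset (AdjoinRoot f) := insert r (Finset.univ.image (AdjoinRoot.of f))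
      have hsub : S ⊆ P.roots.toFinset := by
        intro z hz
        rw [Multiset.mem_toFinset, Polynomial.mem_roots hP]
        rcases Finset.mem_insert.1 hz with rfl | hz'
        · simp [P, he]
        · obtain ⟨a, _, rfl⟩ := Finset.mem_image.1 hz'
          simp [P, hfrob]
      have h1 := Finset.card_le_card hsub
      have h2 : P.roots.toFinset.card ≤ Fintype.card F := by
        refine (Multiset.toFinset_card_le _).trans ((Polynomial.card_roots' P).trans ?_)
        rw [FiniteField.X_pow_card_sub_X_natDegree_eq _ Fintype.one_lt_card]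
      have h3 : S.card = Fintype.card F + 1 := by
        rw [Finset.card_insert_of_notMem, Finset.card_image_of_injective _ (AdjoinRoot.of f).injective,
          Finset.card_univ]
        intro h
        obtain ⟨a, _, ha⟩ := Finset.mem_image.1 h
        exact hnot ⟨a, ha⟩
      omega
    obtain ⟨a, ha⟩ := hmem
    apply hno a
    apply (AdjoinRoot.of f).injective
    rw [map_zero, map_add, map_sub, map_mul, map_pow, map_one, ha, hroot]
  have hsum : r ^ Fintype.card F + r = AdjoinRoot.of f t := by
    have h' : (r ^ Fintype.card F - r) * (r ^ Fintype.card F + r - AdjoinRoot.of f t) = 0 := by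
      linear_combination hroot2 - hroot
    rcases mul_eq_zero.1 h' with h | h
    · exact absurd (sub_eq_zero.1 h) hne
    · exact sub_eq_zero.1 h
  have hprod : r ^ (Fintype.card F + 1) = 1 := by
    rw [pow_succ]; linear_combination r * hsum - hroot
  have hdvd : f ∣ X ^ (Fintype.card F + 1) - 1 := by
    rw [← AdjoinRoot.mk_eq_zero, map_sub, map_pow, map_one, AdjoinRoot.mk_X, ← hr, hprod, sub_self]
  obtain ⟨k, hk⟩ := hdvd
  have hfg : Polynomial.aeval (g : Matrix (Fin 2) (Fin 2) F) f = 0 := by
    have := cayley g t ht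
    simpa [hf, Algebra.smul_def] using this
  have hkey := congrArg (Polynomial.aeval (g : Matrix (Fin 2) (Fin 2) F)) hk
  rw [map_mul, hfg, zero_mul, map_sub, map_pow, aeval_X, map_one, sub_eq_zero] at hkey
  apply Subtype.ext
  rw [Matrix.SpecialLinearGroup.coe_pow, hkey]
  simp

/-- If `l` is a root of `T² - tT + 1` with `t² ≠ 4`, then an element of trace `t` satisfies `g^(q-1) = 1`. -/
theorem pow_card_sub_one [Fintype F] (g : SL(2, F)) (t l : F)
    (ht : Matrix.trace (g : Matrix (Fin 2) (Fin 2) F) = t) (hl : l ^ 2 - t * l + 1 = 0) (ht4 : t ^ 2 ≠ 4) :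
    g ^ (Fintype.card F - 1) = 1 := by
  have hl0 : l ≠ 0 := by rintro rfl; simp at hl
  have hm : (t - l) ≠ 0 := by
    intro h; apply one_ne_zero (α := F); linear_combination hl + l * h
  have hne : (l - (t - l)) ≠ 0 := by
    intro h; apply ht4; linear_combination -4 * hl + (2 * l - t) * h
  have hdvd : (X - C l) * (X - C (t - l)) ∣ X ^ (Fintype.card F - 1) - (1 : F[X]) := by
    apply IsCoprime.mul_dvd
    · exact Polynomial.isCoprime_X_sub_C_of_isUnit_sub hne.isUnit
    · rw [Polynomial.dvd_iff_isRoot]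
      simp [FiniteField.pow_card_sub_one_eq_one l hl0]
    · rw [Polynomial.dvd_iff_isRoot]
      simp [FiniteField.pow_card_sub_one_eq_one (t - l) hm]
  obtain ⟨k, hk⟩ := hdvd
  have e : (X - C l) * (X - C (t - l)) = X ^ 2 - C t * X + (1 : F[X]) := by
    have h1 : C l * C (t - l) = (1 : F[X]) := by
      rw [← C_mul, ← C_1]; congr 1; linear_combination -hl
    calc _ = X ^ 2 - (C l + C (t - l)) * X + C l * C (t - l) := by ring
      _ = _ := by rw [h1, ← C_add, add_sub_cancel]
  rw [e] at hk
  have hfg : Polynomial.aeval (g : Matrix (Fin 2) (Fin 2) F) (X ^ 2 - C t * X + (1 : F[X])) = 0 := by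
    have := cayley g t ht
    simpa [Algebra.smul_def] using this
  have hkey := congrArg (Polynomial.aeval (g : Matrix (Fin 2) (Fin 2) F)) hk
  rw [map_mul, hfg, zero_mul, map_sub, map_pow, aeval_X, map_one, sub_eq_zero] at hkey
  apply Subtype.ext
  rw [Matrix.SpecialLinearGroup.coe_pow, hkey]
  simp

/-- Traces of parabolic elements are detected by a nilpotent translate. -/
theorem trace_sq_eq_four_of_pow_prime (p : ℕ) [Fact p.Prime] [CharP F p] (g : SL(2, F))
    (h : proj g ^ p = 1) : Matrix.trace (g : Matrix (Fin 2) (Fin 2) F) ^ 2 = 4 := by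
  rw [proj, ← QuotientGroup.mk_pow, ← proj, proj_eq_one_iff] at h
  obtain ⟨ε, hε, hg⟩ : ∃ ε : F, ε ^ 2 = 1 ∧ (g : Matrix (Fin 2) (Fin 2) F) ^ p = ε • 1 := by
    rcases h with h | h
    · exact ⟨1, one_pow 2, by rw [← Matrix.SpecialLinearGroup.coe_pow, h]; simp⟩
    · exact ⟨-1, by ring, by rw [← Matrix.SpecialLinearGroup.coe_pow, h]; simp⟩
  have hεp : ε ^ p = ε := by
    rcases sq_eq_one_iff.1 hε with rfl | rfl
    · exact one_pow p
    · rcases (Fact.out : p.Prime).eq_two_or_odd' with rfl | hodd
      · haveI := ‹CharP F 2›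
        rw [show (-1 : F) = 1 from CharTwo.neg_eq 1, one_pow]
      · exact hodd.neg_one_pow
  have hc : Commute (g : Matrix (Fin 2) (Fin 2) F) (ε • 1) := (Commute.one_right _).smul_right ε
  have hnil : IsNilpotent ((g : Matrix (Fin 2) (Fin 2) F) - ε • 1) := by
    refine ⟨p, ?_⟩
    rw [sub_pow_char_of_commute p hc, hg, _root_.smul_pow, one_pow, hεp, sub_self]
  have := (Matrix.isNilpotent_trace_of_isNilpotent hnil).eq_zero
  rw [Matrix.trace_sub, Matrix.trace_smul, Matrix.trace_one, sub_eq_zero] at this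
  rw [this, Fintype.card_fin, smul_eq_mul, Nat.cast_two]
  linear_combination 4 * hε

end CfsgLib.SL2Trace
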